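import Groth.Agent.EtpbcA.CdEtLeray

/-!
# The edge map of the Leray spectral sequence: vanishing

`ext_zero_of_edge`: if `Ext^{n+1}(L P, F) = 0`, `Ext^{n+2}(P, G F) = 0` and `Ext^p(P, R^{q+1} G F) = 0` for
`p > 0`, `p + (q + 1) = n + 2`, then `Hom(P, R^{n+1} G F) = 0`.
-/

set_option autoImplicit false
universe w w' v u v' u'

open CategoryTheory CategoryTheory.Limits CategoryTheory.Abelian AlgebraicGeometry
open Groth.Agent.EtpbcA.CdShift Groth.Agent.EtpbcA.CdLeray

namespace K186.Edge

section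

variable {A : Type u} [Category.{v} A] [Abelian A]
  {B : Type u'} [Category.{v'} B] [Abelian B]
variable [EnoughInjectives A] [HasExt.{w} A] [HasExt.{w'} B]
  {L : B ⥤ A} {G : A ⥤ B} (adj : L ⊣ G) [G.Additive] [L.PreservesMonomorphisms]

include adj

theorem ext_zero_of_edge (P : B) (n : ℕ) : ∀ (F : A)
    (_ : Subsingleton (Ext (L.obj P) F (n + 1)))
    (_ : Subsingleton (Ext P (G.obj F) (n + 2)))
    (_ : ∀ p q, 0 < p → p + (q + 1) = n + 2 → Subsingleton (Ext P ((G.rightDerived (q + 1)).obj F) p)),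
    Subsingleton (Ext P ((G.rightDerived (n + 1)).obj F) 0) := by
  have : PreservesFiniteLimits G := by
    have := adj.rightAdjoint_preservesLimits
    infer_instance
  induction n with
  | zero =>
    intro F h0 hb _
    obtain ⟨S, hS, hI, rfl⟩ := exists_ses F
    have hGI : Injective (G.obj S.X₂) := Injective.injective_of_adjoint adj _
    obtain ⟨e1⟩ := nonempty_shiftIso_one G hS hI
    have hC : Subsingleton (Ext P (Abelian.image (G.map S.g)) 1) :=
      ext_right (shortExact₁ G hS) P 1 (Ext.subsingleton_of_injective _ _ _) hb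
    suffices h : Subsingleton (Ext P (cokernel (G.map S.g)) 0) from subsingleton_ext_of_iso P e1 0 h
    refine subsingleton_of_forall_eq 0 fun x => ?_
    obtain ⟨f, rfl⟩ := Ext.addEquiv₀.symm.surjective x
    obtain ⟨t, ht⟩ := exists_lift_of_ext_one (shortExact₂ G S) P hC f
    obtain ⟨g, hg⟩ := exists_lift_of_ext_one hS (L.obj P) h0 ((adj.homEquiv _ _).symm t)
    have h1 : t = (adj.homEquiv _ _) g ≫ G.map S.g := by
      rw [← Adjunction.homEquiv_naturality_right, hg, Equiv.apply_symm_apply]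
    have h2 : f = 0 := by
      rw [← ht, h1, Category.assoc]
      change _ ≫ G.map S.g ≫ cokernel.π (G.map S.g) = 0
      rw [cokernel.condition, comp_zero]
    rw [h2, map_zero]
  | succ n ih =>
    intro F h0 hb h
    obtain ⟨S, hS, hI, rfl⟩ := exists_ses F
    have hGI : Injective (G.obj S.X₂) := Injective.injective_of_adjoint adj _
    obtain ⟨e1⟩ := nonempty_shiftIso_one G hS hI
    obtain ⟨e2⟩ := nonempty_shiftIso G hS hI n
    refine subsingleton_ext_of_iso P e2 0 (ih S.X₃ ?_ ?_ ?_)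
    · exact ext_right hS _ (n + 1) (Ext.subsingleton_of_injective _ _ _) h0
    · have hC : Subsingleton (Ext P (Abelian.image (G.map S.g)) (n + 2)) :=
        ext_right (shortExact₁ G hS) P (n + 2) (Ext.subsingleton_of_injective _ _ _) hb
      have hK : Subsingleton (Ext P (cokernel (G.map S.g)) (n + 2)) :=
        subsingleton_ext_of_iso P e1.symm (n + 2) (h (n + 2) 0 (by omega) rfl)
      exact ext_mid (shortExact₂ G S) P (n + 2) hC hK
    · intro p q hp hpq
      obtain ⟨e⟩ := nonempty_shiftIso G hS hI q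
      exact subsingleton_ext_of_iso P e.symm p (h p (q + 1) hp (by omega))

end

open Groth.Agent.EtpbcA.CdEtLeray

variable {X Y : Scheme.{u}} (f : X ⟶ Y)

/-- `H^{n+1}(X, F) = 0`, `H^{n+2}(Y, f_* F) = 0` and `H^p(Y, R^{q+1} f_* F) = 0` for `p > 0`, `p + (q + 1) = n + 2`
imply `H^0(Y, R^{n+1} f_* F) = 0`. -/
theorem H_edge (F : EtCoh.Ab X) (n : ℕ)
    (h0 : Subsingleton (EtCoh.H X F (n + 1)))
    (hb : Subsingleton (EtCoh.H Y ((EtCoh.push f).obj F) (n + 2)))
    (h : ∀ p q, 0 < p → p + (q + 1) = n + 2 → Subsingleton (EtCoh.H Y ((EtCoh.Rpush f (q + 1)).obj F) p)) :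
    Subsingleton (EtCoh.H Y ((EtCoh.Rpush f (n + 1)).obj F) 0) :=
  ext_zero_of_edge (EtCoh.pullPushAdj f) (ZZ Y) n F
    (subsingleton_ext_of_iso_left (pullZZ f).symm F (n + 1) h0) hb h

end K186.Edge
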