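import Groth.Agent.EtpbcB.HpullKill
import Groth.Agent.Sga4h.NcSubCons
import Groth.Agent.CurvesA.AffCdFinal
import Groth.Agent.S0140
import Groth.Agent.S0141
import Groth.Agent.Etbc.H208.PrimDev
import Groth.Agent.Etbc.H211.PrimTors

/-!
# Vanishing for `ℓ`-primary torsion sheaves from constructible sheaves killed by `ℓ`
-/

set_option autoImplicit false
universe u
open CategoryTheory CategoryTheory.Limits AlgebraicGeometry Opposite

namespace K186.PrimCons

open Groth.Agent Groth.Agent.EtpbcA Groth.Agent.EtpbcB Groth.Agent.EtpbcB.NKill Groth.Agent.EtpbcB.NKillEt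
  Groth.Agent.EtpbcB.NKillH

variable {X : Scheme.{u}}

theorem eq_zero_of_coprime {A : Type*} [AddCommGroup A] {m n : ℕ} (h : Nat.Coprime m n) (t : A)
    (h1 : m • t = 0) (h2 : n • t = 0) : t = 0 := by
  have h3 := addOrderOf_dvd_of_nsmul_eq_zero h1
  have h4 := addOrderOf_dvd_of_nsmul_eq_zero h2
  have h5 : addOrderOf t ∣ 1 := by
    rw [← h]
    exact Nat.dvd_gcd h3 h4
  exact AddMonoid.addOrderOf_eq_one_iff.1 (Nat.dvd_one.1 h5)

/-- An `ℓ`-primary sheaf killed by a positive integer is killed by a power of `ℓ`. -/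
theorem exists_killedBy_pow {ℓ : ℕ} (hℓ : ℓ.Prime) {F : EtCoh.Ab X} (hF : _root_.Dix.IsPrimaryTorsion ℓ F)
    {n : ℕ} (hn : 0 < n) (hk : EtCoh.KilledBy n F) : ∃ k : ℕ, EtCoh.KilledBy (ℓ ^ k) F := by
  obtain ⟨a, m, hm, hnm⟩ := Nat.exists_eq_pow_mul_and_not_dvd hn.ne' ℓ hℓ.ne_one
  refine ⟨a, fun U s => Groth.Agent.Etbase.EtSite.sect_eq_zero F U _ fun x => ?_⟩
  obtain ⟨V, g, ⟨v, hv⟩, k, hg⟩ := hF U s x
  refine ⟨V, g, v, hv, ?_⟩
  rw [map_nsmul]
  have hc : Nat.Coprime m (ℓ ^ k) := ((Nat.Prime.coprime_iff_not_dvd hℓ).2 hm).symm.pow_right k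
  refine eq_zero_of_coprime hc _ ?_ ?_
  · rw [smul_smul, mul_comm, ← hnm]
    exact hk V _
  · rw [smul_comm]
    rw [hg, smul_zero]

/-- Dévissage. -/
theorem H_of_killedBy_pow [IsNoetherian X] {ℓ : ℕ} (hℓ : ℓ.Prime) (q : ℕ)
    (h : ∀ F : EtCoh.Ab X, EtCoh.KilledBy ℓ F → EtPBC.IsConstructible F → Subsingleton (EtCoh.H X F q)) (k : ℕ) :
    ∀ F : EtCoh.Ab X, EtCoh.KilledBy (ℓ ^ k) F → EtPBC.IsConstructible F → Subsingleton (EtCoh.H X F q) := by
  induction k with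
  | zero =>
    intro F hF _
    have h1 := (killedBy_iff _ F).1 hF
    unfold Killed at h1
    rw [pow_zero, one_smul] at h1
    exact CdEtLeray.H_subsingleton_of_isZero ((IsZero.iff_id_eq_zero F).2 h1) q
  | succ k ih =>
    intro F hF hc
    have hK := (killedBy_iff _ F).1 hF
    have hpos : 0 < ℓ ^ (k + 1) := pow_pos hℓ.pos _
    let S : ShortComplex (EtCoh.Ab X) := ShortComplex.mk (torι (ℓ ^ k) F) (cokernel.π (torι (ℓ ^ k) F))
      (cokernel.condition _)
    have hS : S.ShortExact := { exact := ShortComplex.exact_cokernel _ }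
    refine H_subsingleton_mid hS q ?_ ?_
    · exact ih _ ((killedBy_iff _ _).2 (killed_tor _ _)) (Groth.Agent.S0140.result X (torι (ℓ ^ k) F) _ hpos hF hc)
    · refine h _ ((killedBy_iff _ _).2 ?_) (Groth.Agent.S0141.result X (cokernel.π (torι (ℓ ^ k) F)) _ hpos hF hc)
      have h1 : ℓ ^ k • (ℓ • 𝟙 F) = 0 := by
        rw [smul_smul, ← pow_succ]
        exact hK
      have h2 : ℓ • cokernel.π (torι (ℓ ^ k) F) = 0 := by
        rw [← nsmul_id_comp, ← torLift_ι (ℓ • 𝟙 F) h1, Category.assoc, cokernel.condition, comp_zero]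
      change Killed ℓ (cokernel (torι (ℓ ^ k) F))
      unfold Killed
      rw [← cancel_epi (cokernel.π (torι (ℓ ^ k) F)), comp_nsmul_id, h2, comp_zero]

/-- **Reduction.** Vanishing of `H^q` for `ℓ`-primary torsion sheaves on a noetherian scheme follows from the case of
constructible sheaves killed by `ℓ`. -/
theorem H_of_constructible [IsNoetherian X] {ℓ : ℕ} (hℓ : ℓ.Prime) (q : ℕ)
    (h : ∀ F : EtCoh.Ab X, EtCoh.KilledBy ℓ F → EtPBC.IsConstructible F → Subsingleton (EtCoh.H X F q))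
    (F : EtCoh.Ab X) (hF : _root_.Dix.IsPrimaryTorsion ℓ F) : Subsingleton (EtCoh.H X F q) := by
  obtain ⟨J, i1, i2, D, c, hcol, hD, ⟨e⟩⟩ := Groth.Agent.S0134.result X F
    (Groth.Agent.Etbc.H211.PrimTors.isTorsion_of_isPrimaryTorsion hℓ.pos hF)
  refine CdEtLeray.H_subsingleton_of_iso e q ?_
  refine CurvesA.AffCdFinal.subsingleton_H_colimit (SuppCons.imCIsColimit hcol) q fun j => ?_
  obtain ⟨n, hn, hDn⟩ := KilledBy.exists_killedBy_of_isConstructible (hD j)
  have h1 : EtPBC.IsConstructible ((SuppCons.imD c).obj j) :=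
    Groth.Agent.S0141.result X (SuppCons.imE c j) n hn hDn (hD j)
  have h2 : EtCoh.KilledBy n ((SuppCons.imD c).obj j) :=
    (killedBy_iff _ _).2 (killed_of_epi (SuppCons.imE c j) ((killedBy_iff _ _).1 hDn))
  have hm : Mono ((SuppCons.imC c).ι.app j ≫ e.hom) := mono_comp _ _
  have h3 : _root_.Dix.IsPrimaryTorsion ℓ ((SuppCons.imD c).obj j) :=
    Groth.Agent.Etbc.H208.PrimDev.isPrimaryTorsion_of_mono ((SuppCons.imC c).ι.app j ≫ e.hom) hF
  obtain ⟨k, hk⟩ := exists_killedBy_pow hℓ h3 hn h2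
  exact H_of_killedBy_pow hℓ q h k _ hk h1

/-- Dimension shifting for sheaves killed by `l`. -/
theorem H_succ_of_killedBy {l : ℕ} (hl : 0 < l) (q : ℕ)
    (h : ∀ F : EtCoh.Ab X, EtCoh.KilledBy l F → Subsingleton (EtCoh.H X F q)) :
    ∀ F : EtCoh.Ab X, EtCoh.KilledBy l F → Subsingleton (EtCoh.H X F (q + 1)) := by
  intro F hF
  obtain ⟨J, hJ, S, hS, rfl, h3, h2⟩ := HpullKill.exists_embedding hF
  refine H_subsingleton_left hS q (h _ h3) ?_
  rw [h2]
  exact H_tor J hl (q + 1) (Nat.succ_pos q)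

/-- **`cd_ℓ ≤ d` from degree `d + 1`**, for constructible sheaves killed by `ℓ` on a noetherian scheme. -/
theorem cohDimLEAt_of_killedBy [IsNoetherian X] {ℓ : ℕ} (hℓ : ℓ.Prime) (d : ℕ)
    (h : ∀ F : EtCoh.Ab X, EtCoh.KilledBy ℓ F → Subsingleton (EtCoh.H X F (d + 1))) :
    _root_.Dix.CohDimLEAt X ℓ d := by
  have key : ∀ q, ∀ F : EtCoh.Ab X, EtCoh.KilledBy ℓ F → Subsingleton (EtCoh.H X F (d + 1 + q)) := by
    intro q
    induction q with
    | zero => exact h
    | succ q ih => exact H_succ_of_killedBy hℓ.pos (d + 1 + q) ih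
  intro F hF q hq
  obtain ⟨r, rfl⟩ := Nat.exists_eq_add_of_le (Nat.succ_le_of_lt hq)
  exact H_of_constructible hℓ _ (fun G hG _ => key r G hG) F hF

end K186.PrimCons
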