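import Groth.Agent.EtDual.K337.Ind
import Groth.Agent.Sga4h.H928.ImmVan
import Groth.Agent.EtpbcA.ArtinP1

/-!
# The counit `w⁻¹ w_* F ⟶ F` for a separated étale morphism: `F` is a retract of `w⁻¹ w_* F`
-/

set_option autoImplicit false
universe u
open CategoryTheory CategoryTheory.Limits AlgebraicGeometry Opposite
open Groth.Agent Groth.Agent.EtpbcA Groth.Agent.EtpbcA.Artin

namespace K186.Split

section unit

variable {Y Z : Scheme.{u}} (γ : Y ⟶ Z) [IsClosedImmersion γ]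

theorem isIso_pull_unit (E : EtCoh.Ab Z) : IsIso ((EtCoh.pull γ).map ((EtCoh.pullPushAdj γ).unit.app E)) := by
  obtain ⟨h1, h2⟩ := Groth.Agent.S0067.result γ
  have h3 : IsIso (EtCoh.pullPushAdj γ).counit := Adjunction.counit_isIso_of_R_fully_faithful _
  have h4 := (EtCoh.pullPushAdj γ).left_triangle_components E
  have h5 : (EtCoh.pull γ).map ((EtCoh.pullPushAdj γ).unit.app E) =
      inv ((EtCoh.pullPushAdj γ).counit.app ((EtCoh.pull γ).obj E)) := IsIso.eq_inv_of_inv_hom_id h4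
  rw [h5]
  infer_instance

theorem exists_section_unit [IsOpenImmersion γ] (E : EtCoh.Ab Z) :
    ∃ s : (EtCoh.push γ).obj ((EtCoh.pull γ).obj E) ⟶ E,
      s ≫ (EtCoh.pullPushAdj γ).unit.app E = 𝟙 _ := by
  have hJ := Groth.Agent.Sga4h.EtaleRes.jCont γ
  let E' : EtCoh.Ab Z := (EtCoh.push γ).obj ((EtCoh.pull γ).obj E)
  let η : E ⟶ E' := (EtCoh.pullPushAdj γ).unit.app E
  have h1 : IsIso ((EtShriek.extZeroAdj γ).counit.app E') := by
    refine Groth.Agent.Etcore.ShriekUnique.isIso_counit_of_isZero_stalks γ E' fun Ω _ _ ξ hξ => ?_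
    exact Groth.Agent.S0069.result γ _ ξ (Set.disjoint_left.2 fun x hx hx' => hξ hx hx')
  have h2 : IsIso ((EtShriek.restrAlong γ).map η) :=
    (NatIso.isIso_map_iff (Groth.Agent.Sga4h.EtaleRes.pullIsoRestr γ) η).1 (isIso_pull_unit γ E)
  have h3 := (EtShriek.extZeroAdj γ).counit.naturality η
  have h4 : IsIso ((EtShriek.extZeroAdj γ).counit.app E ≫ η) := by
    have h5 : (EtShriek.extZeroAdj γ).counit.app E ≫ η =
        (EtShriek.restrAlong γ ⋙ EtShriek.extZero γ).map η ≫ (EtShriek.extZeroAdj γ).counit.app E' := h3.symm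
    rw [h5]
    have : IsIso ((EtShriek.restrAlong γ ⋙ EtShriek.extZero γ).map η) :=
      inferInstanceAs (IsIso ((EtShriek.extZero γ).map ((EtShriek.restrAlong γ).map η)))
    infer_instance
  refine ⟨inv ((EtShriek.extZeroAdj γ).counit.app E ≫ η) ≫ (EtShriek.extZeroAdj γ).counit.app E, ?_⟩
  rw [Category.assoc]
  exact IsIso.inv_hom_id _

end unit

section etale

variable {U X : Scheme.{u}} (w : U ⟶ X) [Etale w] [IsSeparated w]

/-- For `w` étale and separated, `F` is a retract of `w⁻¹ w_* F`. -/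
theorem exists_retract (F : EtCoh.Ab U) :
    ∃ (a : F ⟶ (EtCoh.pull w).obj ((EtCoh.push w).obj F)) (b : (EtCoh.pull w).obj ((EtCoh.push w).obj F) ⟶ F),
      a ≫ b = 𝟙 F := by
  let P := pullback w w
  let p1 : P ⟶ U := pullback.fst w w
  let p2 : P ⟶ U := pullback.snd w w
  let δ : U ⟶ P := pullback.diagonal w
  have hδ1 : IsOpenImmersion δ := inferInstance
  have hδ2 : IsClosedImmersion δ := inferInstance
  have hd1 : δ ≫ p1 = 𝟙 U := pullback.diagonal_fst w
  have hd2 : δ ≫ p2 = 𝟙 U := pullback.diagonal_snd w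
  -- base change
  have hlim : ∀ {A B : Scheme.{u}} (f : A ⟶ B), PreservesFiniteLimits (EtCoh.push f) := fun f => by
    have h0 : PreservesLimitsOfSize.{0, 0} (EtCoh.push f) := (EtCoh.pullPushAdj f).rightAdjoint_preservesLimits
    infer_instance
  have := hlim w
  have := hlim p1
  obtain ⟨e⟩ := Etrest.FLCLocal.pull_Rpush_iso w w p2 p1 (IsPullback.of_hasPullback w w).flip F 0
  let e1 : (EtCoh.pull w).obj ((EtCoh.push w).obj F) ≅ (EtCoh.push p1).obj ((EtCoh.pull p2).obj F) :=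
    (EtCoh.pull w).mapIso (((EtCoh.push w).rightDerivedZeroIsoSelf).symm.app F) ≪≫ e ≪≫
      ((EtCoh.push p1).rightDerivedZeroIsoSelf).app _
  let E : EtCoh.Ab P := (EtCoh.pull p2).obj F
  obtain ⟨s, hs⟩ := exists_section_unit δ E
  let e2 : (EtCoh.push p1).obj ((EtCoh.push δ).obj ((EtCoh.pull δ).obj E)) ≅ F :=
    (EtCoh.pushComp p1 δ).app _ ≪≫ (EtCoh.pushCongr hd1).app _ ≪≫ (PullFLC.pushId U).app _ ≪≫
      ((EtCore.pullComp δ p2).app F).symm ≪≫ (EtCore.pullCongr hd2).app F ≪≫ (PullFLC.pullId U).app F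
  refine ⟨e2.inv ≫ (EtCoh.push p1).map s ≫ e1.inv,
    e1.hom ≫ (EtCoh.push p1).map ((EtCoh.pullPushAdj δ).unit.app E) ≫ e2.hom, ?_⟩
  simp only [Category.assoc, Iso.inv_hom_id_assoc]
  rw [← Category.assoc ((EtCoh.push p1).map s), ← Functor.map_comp, hs, CategoryTheory.Functor.map_id,
    Category.id_comp, Iso.inv_hom_id]

end etale

end K186.Split
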