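import Groth.Agent.EtDual.K186.PInf
import Groth.Agent.EtDual.K186.Split
import Groth.Agent.EtDual.K186.PrimCons
import Groth.Agent.Etbc.H212.Lim
import Groth.Agent.Etbc.H211.PrimOps

/-!
# `KeyB ℓ` from the vanishing of `H³` of constructible sheaves killed by `ℓ` on the affine line
-/

set_option autoImplicit false
set_option linter.unusedSectionVars false
universe u
open CategoryTheory CategoryTheory.Limits AlgebraicGeometry Opposite IsLocalRing
open Groth.Agent Groth.Agent.EtpbcA Groth.Agent.EtpbcA.Artin Groth.Agent.EtpbcB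

namespace K186.KeyB

open P1Charts K337.ArtA K186.PInf

/-- Cohomology of a retract. -/
theorem H_retract {X : Scheme.{u}} {F G : EtCoh.Ab X} (a : F ⟶ G) (b : G ⟶ F) (h : a ≫ b = 𝟙 F) (q : ℕ)
    (hG : Subsingleton (EtCoh.H X G q)) : Subsingleton (EtCoh.H X F q) := by
  refine subsingleton_of_forall_eq 0 fun x => ?_
  have h1 : Sheaf.H.map (a ≫ b) q x = x := by rw [h, Sheaf.H.map_id_apply]
  rw [← h1, Sheaf.H.map_comp_apply, Subsingleton.elim (Sheaf.H.map a q x) 0, map_zero]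

section

variable (V : Type u) [CommRing V] [IsDomain V] [HenselianLocalRing V] [IsPrincipalIdealRing V]
  [IsSepClosed (ResidueField V)]
  (C : Type u) [CommRing C] [IsLocalRing C] [Algebra (stk V) C] [IsLocalHom (algebraMap (stk V) C)]
  [Hensel.IsStrictHenselization (stk V) C]

theorem H_stage {ℓ : ℕ} (hℓ : ℓ.Prime) (n : ℕ) (hn : 1 ≤ n)
    (h : ∀ F : EtCoh.Ab (A1 V), _root_.Dix.IsPrimaryTorsion ℓ F → Subsingleton (EtCoh.H (A1 V) F (n + 1)))
    {D : Scheme.{u}} (w : D ⟶ A1 V) [Etale w] [IsSeparated w] [QuasiCompact w] (g : Bl V C ⟶ D)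
    (hg : g ≫ w = bF V C) (F : EtCoh.Ab D) (hF : _root_.Dix.IsPrimaryTorsion ℓ F) :
    Subsingleton (EtCoh.H (Bl V C) ((EtCoh.pull g).obj F) (n + 1)) := by
  obtain ⟨a, b, hab⟩ := K186.Split.exists_retract w F
  refine H_retract ((EtCoh.pull g).map a) ((EtCoh.pull g).map b) (by
    rw [← Functor.map_comp, hab, CategoryTheory.Functor.map_id]) (n + 1) ?_
  have hpush : _root_.Dix.IsPrimaryTorsion ℓ ((EtCoh.push w).obj F) :=
    Groth.Agent.Etbc.H205.AlgExt.isPrimaryTorsion_push w F hF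
  have h1 := H_bF V C ((EtCoh.push w).obj F)
    (Groth.Agent.Etbc.H211.PrimTors.isTorsion_of_isPrimaryTorsion hℓ.pos hpush) n hn (h _ hpush)
  exact CdEtLeray.H_subsingleton_of_iso
    ((EtCore.pullCongr hg.symm).app _ ≪≫ (EtCore.pullComp g w).app _) (n + 1) h1

theorem H_Bl {ℓ : ℕ} (hℓ : ℓ.Prime) (n : ℕ) (hn : 1 ≤ n)
    (h : ∀ F : EtCoh.Ab (A1 V), _root_.Dix.IsPrimaryTorsion ℓ F → Subsingleton (EtCoh.H (A1 V) F (n + 1)))
    (G : EtCoh.Ab (Bl V C)) (hG : _root_.Dix.IsPrimaryTorsion ℓ G) :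
    Subsingleton (EtCoh.H (Bl V C) G (n + 1)) := by
  obtain ⟨ι, _, _, _, D, π, hc, h1, h2, h3⟩ := isEtLim_bW V C
  let Xs : ιᵒᵖ ⥤ Scheme.{u} := D ⋙ Over.forget (Wc V)
  let c : Cone Xs := Cone.mk (Bl V C) π
  have hc : IsLimit c := hc
  have haff : ∀ a, IsAffine (Xs.obj a) := fun a => h2 a
  have htr : ∀ {a b : ιᵒᵖ} (f : a ⟶ b), IsAffineHom (Xs.map f) := fun f => inferInstance
  have hcp : ∀ a, CompactSpace (Xs.obj a) := fun a => inferInstance
  have hqs : ∀ a, QuasiSeparatedSpace (Xs.obj a) := fun a => inferInstance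
  obtain ⟨hcol⟩ := CdColim.isColimit_phiCocone Xs c G hc
  have : PreservesColimitsOfShape (ιᵒᵖ)ᵒᵖ (EtCoh.HF (Bl V C) (n + 1)) :=
    Groth.Agent.S0099.result (Bl V C) (n + 1) (ιᵒᵖ)ᵒᵖ
  have hcol' := isColimitOfPreserves (EtCoh.HF (Bl V C) (n + 1)) hcol
  have hz : IsZero ((EtCoh.HF (Bl V C) (n + 1)).obj G) := by
    rw [IsZero.iff_id_eq_zero]
    refine hcol'.hom_ext fun T => ?_
    have hT : Subsingleton (EtCoh.H (Bl V C) (CdBc.Phi (c.π.app T.unop) G) (n + 1)) := by
      have he : Etale (D.obj T.unop).hom := h1 T.unop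
      have ha : IsAffine (D.obj T.unop).left := h2 T.unop
      have hW : IsAffine (Wc V) := isAffine_of_isAffineHom (wS V)
      have hwA : IsAffineHom (wF V) := inferInstance
      have haw : IsAffineHom ((D.obj T.unop).hom) := inferInstance
      have hwE : Etale (wF V) := inferInstance
      refine H_stage V C hℓ n hn h ((D.obj T.unop).hom ≫ wF V) (c.π.app T.unop) ?_ _ ?_
      · rw [← Category.assoc]
        exact congrArg (· ≫ wF V) (h3 T.unop)
      · have hcomp : IsAffineHom (c.π.app T.unop) := isAffineHom_π_app Xs c hc T.unop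
        exact Groth.Agent.Etbc.H205.AlgExt.isPrimaryTorsion_push (c.π.app T.unop) G hG
    have hz' : IsZero ((EtCoh.HF (Bl V C) (n + 1)).obj (CdBc.Phi (c.π.app T.unop) G)) :=
      @AddCommGrpCat.isZero_of_subsingleton _ hT
    exact hz'.eq_of_src _ _
  exact AddCommGrpCat.subsingleton_of_isZero hz

end

/-- **`KeyB ℓ`** from the vanishing of `H³` of constructible sheaves killed by `ℓ` on the affine line over strictly
henselian discrete valuation rings. -/
theorem keyB_of_line {ℓ : ℕ} (hℓ : ℓ.Prime)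
    (h : ∀ (V : Type u) [CommRing V] [IsDomain V] [HenselianLocalRing V] [IsPrincipalIdealRing V]
      [IsSepClosed (ResidueField V)] (_ : IsUnit (ℓ : V)) (_ : ¬ IsField V) (F : EtCoh.Ab (A1 V))
      (_ : EtCoh.KilledBy ℓ F) (_ : EtPBC.IsConstructible F), Subsingleton (EtCoh.H (A1 V) F 3)) :
    K337.ArtA.KeyB.{u} ℓ := by
  intro V _ _ _ _ _ hu hV C _ _ _ _ _
  have hN : IsNoetherian (A1 V) := inferInstance
  have h1 : ∀ F : EtCoh.Ab (A1 V), _root_.Dix.IsPrimaryTorsion ℓ F → Subsingleton (EtCoh.H (A1 V) F 3) :=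
    fun F hF => K186.PrimCons.H_of_constructible hℓ 3 (fun G hG hGc => h V hu hV G hG hGc) F hF
  have hNB : IsNoetherian (Bl V C) := by
    have := isDedekindDomain_line V C
    infer_instance
  exact K186.PrimCons.cohDimLEAt_of_killedBy hℓ 2 fun F hF =>
    H_Bl V C hℓ 2 (by norm_num) h1 F (Groth.Agent.Etbc.H211.PrimOps.isPrimaryTorsion_of_killedBy hF)

end K186.KeyB
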