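import Groth.Agent.EtDual.K337.LocA
import Groth.Agent.EtDual.K337.Ind
import Groth.Agent.EtDual.K186.Edge
import Groth.Agent.EtpbcA.ArtinP1
import Groth.Agent.Pi1.K154.Spread

/-!
# The projective line over a strictly henselian base: the stalk at infinity of `R^q k_* F`, `k : A¹ ⟶ P¹`
-/

set_option autoImplicit false
set_option linter.unusedSectionVars false
universe u
open CategoryTheory CategoryTheory.Limits AlgebraicGeometry Opposite IsLocalRing
open Groth.Agent Groth.Agent.EtpbcA Groth.Agent.EtpbcA.Artin Groth.Agent.EtpbcB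

namespace K186.PInf

open P1Charts K337.ArtA

section hens

variable (V : Type u) [CommRing V] [HenselianLocalRing V] [IsSepClosed (ResidueField V)]

/-- The stalk of a higher direct image at the closed point. -/
theorem not_mem_supp_Rpush_closedPoint {X : Scheme.{u}} (f : X ⟶ Spec (CommRingCat.of V)) [QuasiCompact f]
    [QuasiSeparated f] (F : EtCoh.Ab X) (n : ℕ) :
    closedPoint V ∉ EtPBC.supp ((EtCoh.Rpush f n).obj F) ↔ Subsingleton (EtCoh.H X F n) := by
  obtain ⟨_, _, _, h1⟩ := StrictHensTransport.exists_specOf_closedPoint V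
  refine (Artin.not_mem_supp_Rpush_iff f F n (closedPoint V) V).trans ?_
  rw [h1, PBCVan.van_id]

theorem closedPoint_not_mem_supp (G : EtCoh.Ab (Spec (CommRingCat.of V)))
    (h : Subsingleton (EtCoh.H (Spec (CommRingCat.of V)) G 0)) : closedPoint V ∉ EtPBC.supp G := by
  have h1 := (not_mem_supp_Rpush_closedPoint V (𝟙 (Spec (CommRingCat.of V))) G 0).2 h
  have hlim : PreservesFiniteLimits (EtCoh.push (𝟙 (Spec (CommRingCat.of V)))) := by
    have h0 : PreservesLimitsOfSize.{0, 0} (EtCoh.push (𝟙 (Spec (CommRingCat.of V)))) :=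
      (EtCoh.pullPushAdj _).rightAdjoint_preservesLimits
    infer_instance
  have e : (EtCoh.Rpush (𝟙 (Spec (CommRingCat.of V))) 0).obj G ≅ G :=
    ((EtCoh.push (𝟙 (Spec (CommRingCat.of V)))).rightDerivedZeroIsoSelf).app G ≪≫ (PullFLC.pushId _).app G
  rwa [supp_congr e] at h1

variable {P : Scheme.{u}} (i : Spec (CommRingCat.of V) ⟶ P) [IsClosedImmersion i]

/-- Sheaves supported on a strictly henselian local closed subscheme are acyclic. -/
theorem H_of_supp (G : EtCoh.Ab P) (hG : EtPBC.supp G ⊆ Set.range i) (p : ℕ) (hp : 0 < p) :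
    Subsingleton (EtCoh.H P G p) := by
  have := SuppClosed.isIso_unit_of_supp i G hG
  refine CdEtLeray.H_subsingleton_of_iso (asIso ((EtCoh.pullPushAdj i).unit.app G)).symm p ?_
  exact (H_push_closed i _ p).2 (Groth.Agent.S0073.result V _ p hp)

theorem not_mem_supp_of_H_zero (G : EtCoh.Ab P) (hG : EtPBC.supp G ⊆ Set.range i)
    (h : Subsingleton (EtCoh.H P G 0)) : i (closedPoint V) ∉ EtPBC.supp G := by
  have := SuppClosed.isIso_unit_of_supp i G hG
  have h1 : Subsingleton (EtCoh.H P ((EtCoh.push i).obj ((EtCoh.pull i).obj G)) 0) :=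
    CdEtLeray.H_subsingleton_of_iso (asIso ((EtCoh.pullPushAdj i).unit.app G)) 0 h
  have h2 := closedPoint_not_mem_supp V _ ((H_push_closed i _ 0).1 h1)
  rw [supp_pull] at h2
  exact h2

end hens

section inf

variable (V : Type u) [CommRing V]

/-- The zero section of the affine line. -/
noncomputable abbrev zeroS : Spec (CommRingCat.of V) ⟶ A1 V :=
  Spec.map (CommRingCat.ofHom (Polynomial.evalRingHom (0 : V)))

theorem zeroS_pr : zeroS V ≫ pr (CommRingCat.of V) = 𝟙 _ := by
  have h : CommRingCat.ofHom (Polynomial.C : V →+* Polynomial V) ≫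
      CommRingCat.ofHom (Polynomial.evalRingHom (0 : V)) = 𝟙 (CommRingCat.of V) := by
    ext a
    simp
  exact (Spec.map_comp _ _).symm.trans ((congrArg Spec.map h).trans (Spec.map_id _))

/-- The section at infinity. -/
noncomputable def inf : Spec (CommRingCat.of V) ⟶ PP (CommRingCat.of V) :=
  zeroS V ≫ chart (0 + 1) (CommRingCat.of V)

theorem inf_toB : inf V ≫ toB (CommRingCat.of V) = 𝟙 _ := by
  unfold inf
  rw [Category.assoc, chart_toB, zeroS_pr]

instance isClosedImmersion_inf : IsClosedImmersion (inf V) := by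
  have h1 : IsProper (toB (CommRingCat.of V)) := Groth.Agent.Dix.ProjProper.isProper_toBase 1 _
  have h2 : IsClosedImmersion (inf V ≫ toB (CommRingCat.of V)) := by
    rw [inf_toB]; infer_instance
  exact IsClosedImmersion.of_comp (inf V) (toB (CommRingCat.of V))

theorem X_mem_zeroS (p : Spec (CommRingCat.of V)) : (Polynomial.X : Polynomial V) ∈ (zeroS V p).asIdeal := by
  change (Polynomial.evalRingHom (0 : V)) Polynomial.X ∈ p.asIdeal
  rw [Polynomial.coe_evalRingHom, Polynomial.eval_X]
  exact Ideal.zero_mem _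

theorem mem_range_inf (z : PP (CommRingCat.of V)) (hz : z ∉ Set.range (chart 0 (CommRingCat.of V))) :
    z ∈ Set.range (inf V) := by
  refine ⟨toB (CommRingCat.of V) z, ?_⟩
  refine eq_of_notMem_range 0 (CommRingCat.of V) _ _ ?_ hz ?_
  · change (chart (0 + 1) (CommRingCat.of V)) (zeroS V (toB (CommRingCat.of V) z)) ∉ _
    rw [chart_mem_range_iff, not_not]
    exact X_mem_zeroS V _
  · rw [← Scheme.Hom.comp_apply, inf_toB]
    rfl

theorem inf_closedPoint [IsLocalRing V] : inf V (closedPoint V) = chart (0 + 1) (CommRingCat.of V) (orig V) := rfl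

end inf

section main

variable (V : Type u) [CommRing V] [HenselianLocalRing V] [IsSepClosed (ResidueField V)]

/-- Proper base change: the cohomology of the projective line. -/
theorem H_PP (E : EtCoh.Ab (PP (CommRingCat.of V))) (hE : EtCoh.IsTorsion E) (q : ℕ) (hq : 2 < q) :
    Subsingleton (EtCoh.H (PP (CommRingCat.of V)) E q) := by
  have hprop : IsProper (toB (CommRingCat.of V)) := Groth.Agent.Dix.ProjProper.isProper_toBase 1 _
  rw [← not_mem_supp_Rpush_closedPoint V (toB (CommRingCat.of V)) E q]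
  obtain ⟨Ω, _, _, ξ, hξ⟩ := exists_point (X := Spec (CommRingCat.of V)) (closedPoint V)
  have hfib : EtCoh.CohDimLE (pullback (toB (CommRingCat.of V)) ξ) 2 :=
    Groth.Agent.S0203.result Ω _ (pullback.snd (toB (CommRingCat.of V)) ξ) (dim_fiber_le ξ)
  refine not_mem_supp_of_fiber (toB (CommRingCat.of V)) ξ _ hξ _ hE q ?_
  exact hfib _ (Etcore.Torsion.isTorsion_pull _ _ hE) q hq

/-- **The edge map.** If `H^{n+1}(A¹_V, F) = 0`, `n ≥ 1`, then the stalk of `R^{n+1} k_* F` at the point at infinity of
the special fibre is zero. -/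
theorem not_mem_supp_chart (F : EtCoh.Ab (AA (CommRingCat.of V))) (hF : EtCoh.IsTorsion F) (n : ℕ) (hn : 1 ≤ n)
    (h : Subsingleton (EtCoh.H (AA (CommRingCat.of V)) F (n + 1))) :
    chart (0 + 1) (CommRingCat.of V) (orig V) ∉
      EtPBC.supp ((EtCoh.Rpush (chart 0 (CommRingCat.of V)) (n + 1)).obj F) := by
  have hqc : QuasiCompact (chart 0 (CommRingCat.of V)) := quasiCompact_chart 0 _
  have hsupp : ∀ q, EtPBC.supp ((EtCoh.Rpush (chart 0 (CommRingCat.of V)) (q + 1)).obj F) ⊆ Set.range (inf V) := by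
    intro q z hz
    refine mem_range_inf V z fun hz' => ?_
    exact not_mem_supp_Rpush_of_open (chart 0 (CommRingCat.of V)) F q z hz' hz
  rw [← inf_closedPoint]
  refine not_mem_supp_of_H_zero V (inf V) _ (hsupp n) ?_
  refine K186.Edge.H_edge (chart 0 (CommRingCat.of V)) F n h ?_ fun p q hp _ => ?_
  · exact H_PP V _ (RpushTors.isTorsion_push _ F hF) _ (by omega)
  · exact H_of_supp V (inf V) _ (hsupp q) p hp

end main

section loc

variable (V : Type u) [CommRing V] [IsDomain V] [HenselianLocalRing V] [IsPrincipalIdealRing V]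
  [IsSepClosed (ResidueField V)]
  (C : Type u) [CommRing C] [IsLocalRing C] [Algebra (stk V) C] [IsLocalHom (algebraMap (stk V) C)]
  [Hensel.IsStrictHenselization (stk V) C]

/-- The complement of the zero section in the second chart, as the intersection of the two charts. -/
noncomputable abbrev Wc : Scheme.{u} := pullback (chart 0 (CommRingCat.of V)) (chart (0 + 1) (CommRingCat.of V))

/-- `D(X) ⟶ A¹` -/
noncomputable abbrev wS : Wc V ⟶ A1 V := pullback.snd (chart 0 (CommRingCat.of V)) (chart (0 + 1) (CommRingCat.of V))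

/-- `D(X) ⟶ A¹`, the other chart -/
noncomputable abbrev wF : Wc V ⟶ A1 V := pullback.fst (chart 0 (CommRingCat.of V)) (chart (0 + 1) (CommRingCat.of V))

theorem range_wS : Set.range (wS V) = {w : A1 V | (Polynomial.X : Polynomial V) ∉ w.asIdeal} := by
  rw [Scheme.Pullback.range_snd]
  ext v
  rw [Set.mem_preimage, chart_mem_range_iff]
  rfl

theorem range_bA_subset : Set.range (bA V C) ⊆ Set.range (wS V) := by
  rintro _ ⟨b, rfl⟩
  rw [range_wS]
  exact X_notMem_bA V C b

/-- `B ⟶ D(X)` -/
noncomputable def bW : Bl V C ⟶ Wc V := IsOpenImmersion.lift (wS V) (bA V C) (range_bA_subset V C)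

theorem bW_wS : bW V C ≫ wS V = bA V C := IsOpenImmersion.lift_fac _ _ _

/-- `B` is the part of the strict localization over `D(X)`. -/
theorem isPullback_bW : IsPullback (bW V C) (iB V C) (wS V) (Hens2.specOf (A1 V) (orig V) C) := by
  have hopen : IsOpenImmersion (iB V C) :=
    inferInstanceAs (IsOpenImmersion (Spec.map (CommRingCat.ofHom (algebraMap C (Localization.Away (xC V C))))))
  refine IsOpenImmersion.isPullback (bW V C) (iB V C) (wS V) (Hens2.specOf (A1 V) (orig V) C) (bW_wS V C).symm ?_
  ext c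
  have hspec : Hens2.specOf (A1 V) (orig V) C =
      Spec.map (CommRingCat.ofHom ((algebraMap (stk V) C).comp (toStk V))) := by
    change Spec.map _ ≫ (A1 V).fromSpecStalk (orig V) = _
    rw [Spec.fromSpecStalk_eq']
    exact (Spec.map_comp _ _).symm
  have h5 : Set.range (iB V C) = (PrimeSpectrum.basicOpen (xC V C) : Set (PrimeSpectrum C)) :=
    PrimeSpectrum.localization_away_comap_range (Localization.Away (xC V C)) (xC V C)
  change Hens2.specOf (A1 V) (orig V) C c ∈ Set.range (wS V) ↔ c ∈ Set.range (iB V C)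
  rw [h5, range_wS, hspec]
  rfl

/-- `B ⟶ A¹`, the affine line of the first chart. -/
noncomputable abbrev bF : Bl V C ⟶ A1 V := bW V C ≫ wF V

/-- Vanishing on `B` for sheaves coming from the affine line. -/
theorem H_bF (F : EtCoh.Ab (A1 V)) (hF : EtCoh.IsTorsion F) (n : ℕ) (hn : 1 ≤ n)
    (h : Subsingleton (EtCoh.H (A1 V) F (n + 1))) :
    Subsingleton (EtCoh.H (Bl V C) ((EtCoh.pull (bF V C)).obj F) (n + 1)) := by
  have h1 := not_mem_supp_chart V F hF n hn h
  rw [mem_supp_Rpush_iff_of_isPullback (chart (0 + 1) (CommRingCat.of V)) (chart 0 (CommRingCat.of V))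
    (wF V) (wS V) (IsPullback.of_hasPullback _ _) F (n + 1) (orig V)] at h1
  have hqc : QuasiCompact (chart 0 (CommRingCat.of V)) := quasiCompact_chart 0 _
  rw [Artin.not_mem_supp_Rpush_iff (wS V) _ (n + 1) (orig V) C, PBCVan.van_iff (isPullback_bW V C)] at h1
  exact CdEtLeray.H_subsingleton_of_iso ((EtCore.pullComp (bW V C) (wF V)).symm.app F) (n + 1) h1

instance isAffineHom_wS : IsAffineHom (wS V) := by
  have h1 : IsProper (toB (CommRingCat.of V)) := Groth.Agent.Dix.ProjProper.isProper_toBase 1 _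
  have h2 : IsAffineHom (chart 0 (CommRingCat.of V) ≫ toB (CommRingCat.of V)) := by
    rw [chart_toB]; infer_instance
  have h3 : IsAffineHom (chart 0 (CommRingCat.of V)) :=
    MorphismProperty.of_postcomp (W := @IsAffineHom) (W' := @IsSeparated) _ (toB (CommRingCat.of V)) inferInstance h2
  exact MorphismProperty.pullback_snd _ _ h3

theorem isEtLim_bW : Groth.Agent.Sga4h.EtLim.IsEtLim (bW V C) :=
  (K154.Spread.isEtLim_specOf (A1 V) (orig V) C).of_isPullback (isPullback_bW V C)

end loc

end K186.PInf
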